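import Cfsg.Agent.H712.OT.DynTab

/-!
# Connected simply laced positive definite Cartan matrices of rank at most 8: type and determinant (helper712), for S2539

`Cart.dyn` : `(N, det C)` is in the list of `H214/OT/Defs.lean`.
-/

set_option autoImplicit false

namespace Cfsg.Agent.H712.OT.Dyn

open Finset

/-- connected simply laced positive definite -/
structure Cart {N : ℕ} (C : Matrix (Fin N) (Fin N) ℤ) : Prop where
  symm : ∀ i j, C i j = C j i
  diag : ∀ i, C i i = 2
  off : ∀ i j, i ≠ j → C i j = 0 ∨ C i j = -1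
  pd : ∀ z : Fin N → ℤ, z ≠ 0 → 0 < ∑ i, ∑ j, z i * C i j * z j
  conn : ∀ S : Set (Fin N), S.Nonempty → S ≠ Set.univ → ∃ i ∈ S, ∃ j, j ∉ S ∧ C i j ≠ 0

/-- an induced subgraph of type `t` on `k` vertices -/
structure Emb {N : ℕ} (C : Matrix (Fin N) (Fin N) ℤ) (k t : ℕ) (f : Fin k → Fin N) : Prop where
  inj : Function.Injective f
  iff : ∀ i j : Fin k, i ≠ j → (C (f i) (f j) = -1 ↔ adj t k i j = true)

theorem quad (c : ℕ → ℕ → ℤ) (hs : ∀ i j, c i j = c j i) (z : ℕ → ℤ) (K : ℕ) (hd : ∀ i < K, c i i = 2) :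
    ∑ i ∈ range K, ∑ j ∈ range K, z i * c i j * z j =
      2 * ∑ i ∈ range K, z i * z i + 2 * ∑ i ∈ range K, ∑ j ∈ range i, z i * c i j * z j := by
  induction K with
  | zero => simp
  | succ K ih =>
      have h1 := ih fun i hi => hd i (by omega)
      rw [sum_range_succ, sum_range_succ (fun i => z i * z i), sum_range_succ (fun i => ∑ j ∈ range i, z i * c i j * z j),
        sum_range_succ (fun j => z K * c K j * z j)]
      have h2 : ∑ i ∈ range K, ∑ j ∈ range (K + 1), z i * c i j * z j =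
          ∑ i ∈ range K, ∑ j ∈ range K, z i * c i j * z j + ∑ i ∈ range K, z K * c K i * z i := by
        rw [← sum_add_distrib]
        refine sum_congr rfl fun i _ => ?_
        rw [sum_range_succ, hs i K]
        ring
      rw [h2, h1, hd K (by omega)]
      ring

theorem push {N K : ℕ} {C : Matrix (Fin N) (Fin N) ℤ} (hC : Cart C) {g : Fin K → Fin N} (hg : Function.Injective g)
    {z : Fin K → ℤ} (hz : z ≠ 0) : 0 < ∑ i, ∑ j, z i * C (g i) (g j) * z j := by
  classical
  let y : Fin N → ℤ := fun x => ∑ i, if g i = x then z i else 0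
  have hy : ∀ i, y (g i) = z i := by
    intro i
    change (∑ j, if g j = g i then z j else 0) = z i
    rw [Finset.sum_eq_single i]
    · simp
    · intro j _ hj
      rw [if_neg (fun h => hj (hg h))]
    · intro h
      exact absurd (mem_univ i) h
  have hy0 : y ≠ 0 := by
    intro h
    apply hz
    funext i
    rw [← hy i, h]
    rfl
  have key : ∀ w : Fin N → ℤ, ∑ x, y x * w x = ∑ i, z i * w (g i) := by
    intro w
    have h1 : ∀ x, y x * w x = ∑ i, if g i = x then z i * w (g i) else 0 := by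
      intro x
      change (∑ i, if g i = x then z i else 0) * w x = _
      rw [sum_mul]
      refine sum_congr rfl fun i _ => ?_
      split_ifs with h
      · rw [h]
      · rw [zero_mul]
    rw [sum_congr rfl fun x _ => h1 x, sum_comm]
    refine sum_congr rfl fun i _ => ?_
    rw [sum_ite_eq]
    simp
  have h2 := hC.pd y hy0
  have h3 : ∑ i, ∑ j, y i * C i j * y j = ∑ i, ∑ j, z i * C (g i) (g j) * z j := by
    have h4 : ∀ i, ∑ j, y i * C i j * y j = y i * ∑ j, z j * C i (g j) := by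
      intro i
      rw [← key (fun x => C i x), mul_sum]
      refine sum_congr rfl fun j _ => ?_
      ring
    rw [sum_congr rfl fun i _ => h4 i, key (fun x => ∑ j, z j * C x (g j))]
    refine sum_congr rfl fun i _ => ?_
    rw [mul_sum]
    refine sum_congr rfl fun j _ => ?_
    ring
  rwa [h3] at h2

theorem list_sum_range (f : ℕ → ℕ) (n : ℕ) : ((List.range n).map f).sum = ∑ i ∈ range n, f i := by
  induction n with
  | zero => simp
  | succ n ih => rw [List.range_succ, List.map_append, List.sum_append, ih, sum_range_succ]; simp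

theorem sq_eq {l : List ℕ} {K : ℕ} (h : l.length = K) : sq l = ∑ i ∈ range K, l.getD i 0 * l.getD i 0 := by
  rw [← list_sum_range, sq, ← h]
  congr 1
  apply List.ext_getElem
  · simp
  · intro i h1 h2
    simp only [List.getElem_map, List.getElem_range]
    rw [List.length_map] at h1
    rw [List.getD_eq_getElem _ _ h1]

theorem cross_eq (t k m : ℕ) (l : List ℕ) : cross t k m l = ∑ i ∈ range (k + 1), ∑ j ∈ range i,
    if adjExt t k m i j then l.getD i 0 * l.getD j 0 else 0 := by
  rw [cross, list_sum_range]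
  refine sum_congr rfl fun i _ => ?_
  rw [list_sum_range]

theorem step {N : ℕ} {C : Matrix (Fin N) (Fin N) ℤ} (hC : Cart C) {k t : ℕ} (h1 : 1 ≤ k) (h7 : k ≤ 7)
    (hkN : k < N) (hv : valid t k = true) {f : Fin k → Fin N} (hf : Emb C k t f) :
    ∃ t' : ℕ, valid t' (k + 1) = true ∧ t' < 3 ∧ ∃ f' : Fin (k + 1) → Fin N, Emb C (k + 1) t' f' := by
  classical
  -- a new vertex
  have hne : Set.range f ≠ Set.univ := by
    intro h
    have h2 : Function.Surjective f := Set.range_eq_univ.1 h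
    have h3 := Fintype.card_le_of_surjective f h2
    simp at h3
    omega
  obtain ⟨_, ⟨i0, rfl⟩, v, hv', hi0⟩ := hC.conn (Set.range f) ⟨f ⟨0, by omega⟩, ⟨_, rfl⟩⟩ hne
  have hfv : ∀ i, f i ≠ v := fun i h => hv' ⟨i, h⟩
  let g : Fin (k + 1) → Fin N := Fin.snoc f v
  have hgc : ∀ i : Fin k, g i.castSucc = f i := fun i => Fin.snoc_castSucc (α := fun _ => Fin N) _ _ _
  have hgl : g (Fin.last k) = v := Fin.snoc_last (α := fun _ => Fin N) _ _
  have hg : Function.Injective g := by
    intro i j hij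
    induction i using Fin.lastCases with
    | last =>
        induction j using Fin.lastCases with
        | last => rfl
        | cast j => rw [hgc, hgl] at hij; exact absurd hij.symm (hfv j)
    | cast i =>
        induction j using Fin.lastCases with
        | last => rw [hgc, hgl] at hij; exact absurd hij (hfv i)
        | cast j => rw [hgc, hgc] at hij; rw [hf.inj hij]
  let b : Fin k → Bool := fun i => decide (C (f i) v = -1)
  let m0 : ℕ := Nat.ofBits b
  have hm0 : m0 < 2 ^ k := Nat.ofBits_lt_two_pow b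
  have hbit : ∀ i : Fin k, m0.testBit i = b i := fun i => by
    rw [Nat.testBit_ofBits_lt b i i.2]
  have hm1 : m0 ≠ 0 := by
    intro h
    have h2 := hbit i0
    rw [h, Nat.zero_testBit] at h2
    have h3 : C (f i0) v = -1 := by
      rcases hC.off (f i0) v (hfv i0) with h4 | h4
      · exact absurd h4 hi0
      · exact h4
    have h4 : b i0 = true := decide_eq_true h3
    rw [h4] at h2
    exact Bool.false_ne_true h2
  have hadj : ∀ i j : Fin (k + 1), i ≠ j → (C (g i) (g j) = -1 ↔ adjExt t k m0 i j = true) := by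
    intro i j hij
    induction i using Fin.lastCases with
    | last =>
        induction j using Fin.lastCases with
        | last => exact absurd rfl hij
        | cast j =>
            rw [hgc, hgl, hC.symm]
            have : adjExt t k m0 (Fin.last k : ℕ) (j.castSucc : ℕ) = m0.testBit j := by
              simp [adjExt]
            rw [this, hbit j]
            exact (decide_eq_true_iff).symm
    | cast i =>
        induction j using Fin.lastCases with
        | last =>
            rw [hgc, hgl]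
            have : adjExt t k m0 (i.castSucc : ℕ) (Fin.last k : ℕ) = m0.testBit i := by
              simp [adjExt]
            rw [this, hbit i]
            exact (decide_eq_true_iff).symm
        | cast j =>
            rw [hgc, hgc]
            have : adjExt t k m0 (i.castSucc : ℕ) (j.castSucc : ℕ) = adj t k i j := by
              simp [adjExt]
            rw [this]
            exact hf.iff i j fun h => hij (by rw [h])
  -- the certificate
  have hall := checkAll_of_valid h1 h7 hv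
  have hc := List.all_eq_true.1 hall (m0 - 1) (List.mem_range.2 (by omega))
  rw [Nat.sub_add_cancel (Nat.one_le_iff_ne_zero.2 hm1)] at hc
  set c := (cert k t).getD (m0 - 1) (4, []) with hcdef
  unfold check at hc
  split_ifs at hc with h3
  · exfalso
    simp only [Bool.and_eq_true, beq_iff_eq, decide_eq_true_eq, List.any_eq_true, bne_iff_ne, ne_eq] at hc
    obtain ⟨⟨hlen, z0, hz0m, hz0⟩, hle⟩ := hc
    set l := c.2 with hl
    let z : Fin (k + 1) → ℤ := fun i => (l.getD i 0 : ℕ)
    have hz : z ≠ 0 := by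
      intro h
      obtain ⟨i, hi, rfl⟩ := List.mem_iff_getElem.1 hz0m
      have h4 := congrFun h ⟨i, by omega⟩
      have h5 : ((l.getD i 0 : ℕ) : ℤ) = 0 := h4
      rw [List.getD_eq_getElem _ _ hi] at h5
      exact hz0 (by exact_mod_cast h5)
    have hpos := push hC hg hz
    let c' : ℕ → ℕ → ℤ := fun i j => if h : i < k + 1 ∧ j < k + 1 then C (g ⟨i, h.1⟩) (g ⟨j, h.2⟩) else 0
    have hs : ∀ i j, c' i j = c' j i := by
      intro i j
      simp only [c']
      by_cases h : i < k + 1 ∧ j < k + 1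
      · rw [dif_pos h, dif_pos ⟨h.2, h.1⟩, hC.symm]
      · rw [dif_neg h, dif_neg (fun h' => h ⟨h'.2, h'.1⟩)]
    have hd : ∀ i < k + 1, c' i i = 2 := by
      intro i hi
      simp only [c']
      rw [dif_pos ⟨hi, hi⟩, hC.diag]
    have hq := quad c' hs (fun i => (l.getD i 0 : ℤ)) (k + 1) hd
    have e1 : ∑ i, ∑ j, z i * C (g i) (g j) * z j =
        ∑ i ∈ range (k + 1), ∑ j ∈ range (k + 1), (l.getD i 0 : ℤ) * c' i j * (l.getD j 0 : ℤ) := by
      rw [← Fin.sum_univ_eq_sum_range (fun i => ∑ j ∈ range (k + 1), (l.getD i 0 : ℤ) * c' i j * (l.getD j 0 : ℤ))]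
      refine sum_congr rfl fun i _ => ?_
      rw [← Fin.sum_univ_eq_sum_range (fun j => (l.getD i 0 : ℤ) * c' i j * (l.getD j 0 : ℤ))]
      refine sum_congr rfl fun j _ => ?_
      have : c' i j = C (g i) (g j) := by
        simp only [c']
        rw [dif_pos ⟨i.2, j.2⟩]
      rw [this]
    have e2 : ∑ i ∈ range (k + 1), ∑ j ∈ range i, (l.getD i 0 : ℤ) * c' i j * (l.getD j 0 : ℤ) =
        - ((cross t k m0 l : ℕ) : ℤ) := by
      rw [cross_eq]
      push_cast
      rw [← sum_neg_distrib]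
      refine sum_congr rfl fun i hi => ?_
      rw [← sum_neg_distrib]
      refine sum_congr rfl fun j hj => ?_
      have hi' := mem_range.1 hi
      have hj' := mem_range.1 hj
      have hne' : (⟨i, hi'⟩ : Fin (k + 1)) ≠ ⟨j, by omega⟩ := fun h => by
        have := congrArg Fin.val h
        simp only at this
        omega
      have hiff := hadj ⟨i, hi'⟩ ⟨j, by omega⟩ hne'
      have hc' : c' i j = C (g ⟨i, hi'⟩) (g ⟨j, by omega⟩) := by
        simp only [c']
        rw [dif_pos ⟨hi', by omega⟩]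
      rw [hc']
      rcases hC.off _ _ (fun h => hne' (hg h)) with h5 | h5
      · rw [h5]
        have : ¬ adjExt t k m0 i j = true := fun h => by
          have := hiff.2 h
          omega
        rw [if_neg this]
        ring
      · rw [h5, if_pos (hiff.1 h5)]
        ring
    have e3 : ∑ i ∈ range (k + 1), (l.getD i 0 : ℤ) * (l.getD i 0 : ℤ) = ((sq l : ℕ) : ℤ) := by
      rw [sq_eq hlen]
      push_cast
      rfl
    rw [e1, hq, e2, e3] at hpos
    have : ((sq l : ℕ) : ℤ) ≤ ((cross t k m0 l : ℕ) : ℤ) := by exact_mod_cast hle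
    omega
  · simp only [Bool.and_eq_true, beq_iff_eq, decide_eq_true_eq, List.all_eq_true, List.mem_range] at hc
    obtain ⟨⟨⟨⟨⟨hval, hc3⟩, hlen⟩, hlt⟩, hnd⟩, hiso⟩ := hc
    set l := c.2 with hl
    have hltk : ∀ i : Fin (k + 1), l.getD i 0 < k + 1 := by
      intro i
      have hi : (i : ℕ) < l.length := by rw [hlen]; exact i.2
      rw [List.getD_eq_getElem _ _ hi]
      exact hlt _ (List.getElem_mem hi)
    let τ : Fin (k + 1) → Fin (k + 1) := fun i => ⟨l.getD i 0, hltk i⟩
    have hτ : Function.Injective τ := by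
      intro i j hij
      have h4 : l.getD i 0 = l.getD j 0 := congrArg Fin.val hij
      have hi : (i : ℕ) < l.length := by rw [hlen]; exact i.2
      have hj : (j : ℕ) < l.length := by rw [hlen]; exact j.2
      rw [List.getD_eq_getElem _ _ hi, List.getD_eq_getElem _ _ hj] at h4
      exact Fin.ext ((hnd.getElem_inj_iff).1 h4)
    refine ⟨c.1, hval, hc3, g ∘ τ, ⟨hg.comp hτ, fun i j hij => ?_⟩⟩
    change C (g (τ i)) (g (τ j)) = -1 ↔ _
    rw [hadj _ _ fun h => hij (hτ h), ← hiso i i.2 j j.2]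

theorem exists_emb {N : ℕ} {C : Matrix (Fin N) (Fin N) ℤ} (hC : Cart C) (h8 : N ≤ 8) (k : ℕ) (h1 : 1 ≤ k) (hk : k ≤ N) :
    ∃ t : ℕ, valid t k = true ∧ t < 3 ∧ ∃ f : Fin k → Fin N, Emb C k t f := by
  induction k, h1 using Nat.le_induction with
  | base =>
      refine ⟨0, rfl, by norm_num, fun _ => ⟨0, by omega⟩, ⟨fun i j _ => Subsingleton.elim _ _, fun i j hij => ?_⟩⟩
      exact absurd (Subsingleton.elim i j) hij
  | succ k hk1 ih =>
      obtain ⟨t, hv, -, f, hf⟩ := ih (by omega)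
      exact step hC hk1 (by omega) (by omega) hv hf

/-- the standard matrices -/
def stdMat (t n : ℕ) : Matrix (Fin n) (Fin n) ℤ :=
  Matrix.of fun i j => if i = j then 2 else if adj t n i j then -1 else 0

/-- **Type**: a permutation transforms `C` into a standard matrix. -/
theorem Cart.exists_std {N : ℕ} {C : Matrix (Fin N) (Fin N) ℤ} (hC : Cart C) (h1 : 1 ≤ N) (h8 : N ≤ 8) :
    ∃ t : ℕ, valid t N = true ∧ t < 3 ∧ ∃ e : Equiv.Perm (Fin N), C.submatrix e e = stdMat t N := by
  obtain ⟨t, hv, h3, f, hf⟩ := exists_emb hC h8 N h1 le_rfl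
  refine ⟨t, hv, h3, Equiv.ofBijective f (Finite.injective_iff_bijective.1 hf.inj), ?_⟩
  ext i j
  change C (f i) (f j) = if i = j then 2 else if adj t N i j then -1 else 0
  by_cases hij : i = j
  · rw [if_pos hij, hij, hC.diag]
  · rw [if_neg hij]
    have h4 := hf.iff i j hij
    rcases hC.off _ _ (fun h => hij (hf.inj h)) with h5 | h5
    · rw [if_neg (fun h => by have := h4.2 h; omega), h5]
    · rw [if_pos (h4.1 h5), h5]

theorem det_std {t n : ℕ} (hv : valid t n = true) (h3 : t < 3) (h2 : 2 ≤ n) (h8 : n ≤ 8) :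
    (stdMat t n).det = if t = 0 then (n : ℤ) + 1 else if t = 1 then 4 else 9 - n := by
  have ht : t = 0 ∨ t = 1 ∨ t = 2 := by omega
  rcases ht with rfl | rfl | rfl
  · have hn : n = 2 ∨ n = 3 ∨ n = 4 ∨ n = 5 ∨ n = 6 ∨ n = 7 ∨ n = 8 := by omega
    rcases hn with rfl | rfl | rfl | rfl | rfl | rfl | rfl
    · have : stdMat 0 2 = !![2, -1; -1, 2] := by decide
      rw [this]; simp only [norm_det]; norm_num
    · have : stdMat 0 3 = !![2, -1, 0; -1, 2, -1; 0, -1, 2] := by decide
      rw [this]; simp only [norm_det]; norm_num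
    · have : stdMat 0 4 = !![2, -1, 0, 0; -1, 2, -1, 0; 0, -1, 2, -1; 0, 0, -1, 2] := by decide
      rw [this]; simp only [norm_det]; norm_num
    · have : stdMat 0 5 = !![2, -1, 0, 0, 0; -1, 2, -1, 0, 0; 0, -1, 2, -1, 0; 0, 0, -1, 2, -1; 0, 0, 0, -1, 2] := by
        decide
      rw [this]; simp only [norm_det]; norm_num
    · have : stdMat 0 6 = !![2, -1, 0, 0, 0, 0; -1, 2, -1, 0, 0, 0; 0, -1, 2, -1, 0, 0; 0, 0, -1, 2, -1, 0;
          0, 0, 0, -1, 2, -1; 0, 0, 0, 0, -1, 2] := by decide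
      rw [this]; simp only [norm_det]; norm_num
    · have : stdMat 0 7 = !![2, -1, 0, 0, 0, 0, 0; -1, 2, -1, 0, 0, 0, 0; 0, -1, 2, -1, 0, 0, 0; 0, 0, -1, 2, -1, 0, 0;
          0, 0, 0, -1, 2, -1, 0; 0, 0, 0, 0, -1, 2, -1; 0, 0, 0, 0, 0, -1, 2] := by decide
      rw [this]; simp only [norm_det]; norm_num
    · have : stdMat 0 8 = !![2, -1, 0, 0, 0, 0, 0, 0; -1, 2, -1, 0, 0, 0, 0, 0; 0, -1, 2, -1, 0, 0, 0, 0;
          0, 0, -1, 2, -1, 0, 0, 0; 0, 0, 0, -1, 2, -1, 0, 0; 0, 0, 0, 0, -1, 2, -1, 0; 0, 0, 0, 0, 0, -1, 2, -1;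
          0, 0, 0, 0, 0, 0, -1, 2] := by decide
      rw [this]; simp only [norm_det]; norm_num
  · have hn : n = 4 ∨ n = 5 ∨ n = 6 ∨ n = 7 ∨ n = 8 := by
      simp only [valid, Bool.or_eq_true, Bool.and_eq_true, beq_iff_eq, decide_eq_true_eq] at hv
      omega
    rcases hn with rfl | rfl | rfl | rfl | rfl
    · have : stdMat 1 4 = !![2, -1, 0, 0; -1, 2, -1, -1; 0, -1, 2, 0; 0, -1, 0, 2] := by decide
      rw [this]; simp only [norm_det]; norm_num
    · have : stdMat 1 5 = !![2, -1, 0, 0, 0; -1, 2, -1, 0, 0; 0, -1, 2, -1, -1; 0, 0, -1, 2, 0; 0, 0, -1, 0, 2] := by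
        decide
      rw [this]; simp only [norm_det]; norm_num
    · have : stdMat 1 6 = !![2, -1, 0, 0, 0, 0; -1, 2, -1, 0, 0, 0; 0, -1, 2, -1, 0, 0; 0, 0, -1, 2, -1, -1;
          0, 0, 0, -1, 2, 0; 0, 0, 0, -1, 0, 2] := by decide
      rw [this]; simp only [norm_det]; norm_num
    · have : stdMat 1 7 = !![2, -1, 0, 0, 0, 0, 0; -1, 2, -1, 0, 0, 0, 0; 0, -1, 2, -1, 0, 0, 0; 0, 0, -1, 2, -1, 0, 0;
          0, 0, 0, -1, 2, -1, -1; 0, 0, 0, 0, -1, 2, 0; 0, 0, 0, 0, -1, 0, 2] := by decide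
      rw [this]; simp only [norm_det]; norm_num
    · have : stdMat 1 8 = !![2, -1, 0, 0, 0, 0, 0, 0; -1, 2, -1, 0, 0, 0, 0, 0; 0, -1, 2, -1, 0, 0, 0, 0;
          0, 0, -1, 2, -1, 0, 0, 0; 0, 0, 0, -1, 2, -1, 0, 0; 0, 0, 0, 0, -1, 2, -1, -1; 0, 0, 0, 0, 0, -1, 2, 0;
          0, 0, 0, 0, 0, -1, 0, 2] := by decide
      rw [this]; simp only [norm_det]; norm_num
  · have hn : n = 6 ∨ n = 7 ∨ n = 8 := by
      simp only [valid, Bool.or_eq_true, Bool.and_eq_true, beq_iff_eq, decide_eq_true_eq] at hv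
      omega
    rcases hn with rfl | rfl | rfl
    · have : stdMat 2 6 = !![2, -1, 0, 0, 0, 0; -1, 2, -1, 0, 0, 0; 0, -1, 2, -1, 0, -1; 0, 0, -1, 2, -1, 0;
          0, 0, 0, -1, 2, 0; 0, 0, -1, 0, 0, 2] := by decide
      rw [this]; simp only [norm_det]; norm_num
    · have : stdMat 2 7 = !![2, -1, 0, 0, 0, 0, 0; -1, 2, -1, 0, 0, 0, 0; 0, -1, 2, -1, 0, 0, -1; 0, 0, -1, 2, -1, 0, 0;
          0, 0, 0, -1, 2, -1, 0; 0, 0, 0, 0, -1, 2, 0; 0, 0, -1, 0, 0, 0, 2] := by decide
      rw [this]; simp only [norm_det]; norm_num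
    · have : stdMat 2 8 = !![2, -1, 0, 0, 0, 0, 0, 0; -1, 2, -1, 0, 0, 0, 0, 0; 0, -1, 2, -1, 0, 0, 0, -1;
          0, 0, -1, 2, -1, 0, 0, 0; 0, 0, 0, -1, 2, -1, 0, 0; 0, 0, 0, 0, -1, 2, -1, 0; 0, 0, 0, 0, 0, -1, 2, 0;
          0, 0, -1, 0, 0, 0, 0, 2] := by decide
      rw [this]; simp only [norm_det]; norm_num

/-- **Rank and determinant** -/
theorem Cart.dyn {N : ℕ} {C : Matrix (Fin N) (Fin N) ℤ} (hC : Cart C) (h2 : 2 ≤ N) (h8 : N ≤ 8) :
    ∃ d : ℕ, C.det = d ∧ (N, d) ∈ ([(2, 3), (3, 4), (4, 5), (4, 4), (5, 6), (5, 4), (6, 7), (6, 4), (6, 3), (7, 8),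
      (7, 4), (7, 2), (8, 9), (8, 4), (8, 1)] : List (ℕ × ℕ)) := by
  obtain ⟨t, hv, h3, e, he⟩ := hC.exists_std (by omega) h8
  have hdet : C.det = (stdMat t N).det := by rw [← he, Matrix.det_submatrix_equiv_self]
  rw [hdet, det_std hv h3 h2 h8]
  simp only [valid, Bool.or_eq_true, Bool.and_eq_true, beq_iff_eq, decide_eq_true_eq] at hv
  rcases hv with (rfl | ⟨rfl, h4⟩) | ⟨rfl, h6⟩
  · refine ⟨N + 1, by simp, ?_⟩
    interval_cases N <;> simp
  · refine ⟨4, by simp, ?_⟩
    interval_cases N <;> simp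
  · refine ⟨9 - N, ?_, ?_⟩
    · interval_cases N <;> simp
    · interval_cases N <;> simp

end Cfsg.Agent.H712.OT.Dyn
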