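import Mathlib

/-!
# Connected simply laced positive definite Cartan matrices of rank at most 8 (helper712), for S2539

Every connected graph with at most 8 vertices whose matrix `2 - adjacency` is positive definite is `A_n`, `D_n`, `E_6`,
`E_7` or `E_8`: one vertex at a time; the tables contain, for each type and each way to attach a new vertex, a permutation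
onto a standard graph or a vector of norm `≤ 0`.
-/

set_option autoImplicit false

namespace Cfsg.Agent.H712.OT.Dyn

/-- adjacency of the standard graphs: `t = 0` : path; `t = 1` : `D_n`; `t = 2` : `E_n` -/
def edge (t n a b : ℕ) : Bool :=
  if t = 0 then a + 1 == b
  else (a + 1 == b && decide (b + 1 < n)) || (a == (if t = 1 then n - 3 else 2) && b + 1 == n)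

/-- adjacency -/
def adj (t n i j : ℕ) : Bool := edge t n i j || edge t n j i

/-- a new vertex `k`, attached to the vertices in the binary expansion of `m` -/
def adjExt (t k m i j : ℕ) : Bool :=
  if i < k then (if j < k then adj t k i j else (j == k && m.testBit i))
  else (if j < k then (i == k && m.testBit j) else false)

/-- `∑ z_i²` -/
def sq (l : List ℕ) : ℕ := (l.map fun z => z * z).sum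

/-- `∑_{i<j adjacent} z_i z_j` -/
def cross (t k m : ℕ) (l : List ℕ) : ℕ :=
  ((List.range (k + 1)).map fun i => ((List.range i).map fun j =>
    if adjExt t k m i j then l.getD i 0 * l.getD j 0 else 0).sum).sum

/-- admissible pairs -/
def valid (t n : ℕ) : Bool := t == 0 || (t == 1 && decide (4 ≤ n)) || (t == 2 && decide (6 ≤ n))

/-- check of one certificate -/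
def check (t k m : ℕ) (c : ℕ × List ℕ) : Bool :=
  if c.1 = 3 then c.2.length == k + 1 && (c.2.any fun z => z != 0) && decide (sq c.2 ≤ cross t k m c.2)
  else valid c.1 (k + 1) && decide (c.1 < 3) && c.2.length == k + 1 && (c.2.all fun z => decide (z < k + 1)) &&
    decide c.2.Nodup &&
    ((List.range (k + 1)).all fun i => (List.range (k + 1)).all fun j =>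
      adjExt t k m (c.2.getD i 0) (c.2.getD j 0) == adj c.1 (k + 1) i j)

def cert1A : List (ℕ × List ℕ) := [
  (0, [0, 1])]

def cert2A : List (ℕ × List ℕ) := [
  (0, [1, 0, 2]), (0, [0, 1, 2]), (3, [1, 1, 1])]

def cert3A : List (ℕ × List ℕ) := [
  (0, [2, 1, 0, 3]), (1, [0, 1, 2, 3]), (3, [1, 1, 0, 1]), (0, [0, 1, 2, 3]), (3, [1, 1, 1, 1]),
  (3, [0, 1, 1, 1]), (3, [1, 1, 0, 1])]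

def cert4A : List (ℕ × List ℕ) := [
  (0, [3, 2, 1, 0, 4]), (1, [3, 2, 1, 0, 4]), (3, [1, 1, 0, 0, 1]), (1, [0, 1, 2, 3, 4]),
  (3, [1, 1, 1, 0, 1]), (3, [0, 1, 1, 0, 1]), (3, [1, 1, 0, 0, 1]), (0, [0, 1, 2, 3, 4]),
  (3, [1, 1, 1, 1, 1]), (3, [0, 1, 1, 1, 1]), (3, [1, 1, 0, 0, 1]), (3, [0, 0, 1, 1, 1]),
  (3, [0, 0, 1, 1, 1]), (3, [0, 1, 1, 0, 1]), (3, [1, 1, 0, 0, 1])]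

def cert4D : List (ℕ × List ℕ) := [
  (1, [4, 0, 1, 2, 3]), (3, [1, 2, 1, 1, 1]), (3, [1, 1, 0, 0, 1]), (1, [4, 2, 1, 0, 3]),
  (3, [1, 1, 1, 0, 1]), (3, [0, 1, 1, 0, 1]), (3, [1, 1, 0, 0, 1]), (1, [4, 3, 1, 0, 2]),
  (3, [1, 1, 0, 1, 1]), (3, [0, 1, 0, 1, 1]), (3, [1, 1, 0, 0, 1]), (3, [0, 1, 1, 1, 1]),
  (3, [1, 1, 1, 0, 1]), (3, [0, 1, 1, 0, 1]), (3, [1, 1, 0, 0, 1])]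

def cert5A : List (ℕ × List ℕ) := [
  (0, [4, 3, 2, 1, 0, 5]), (1, [4, 3, 2, 1, 0, 5]), (3, [1, 1, 0, 0, 0, 1]), (2, [0, 1, 2, 3, 4, 5]),
  (3, [1, 1, 1, 0, 0, 1]), (3, [0, 1, 1, 0, 0, 1]), (3, [1, 1, 0, 0, 0, 1]), (1, [0, 1, 2, 3, 4, 5]),
  (3, [1, 1, 1, 1, 0, 1]), (3, [0, 1, 1, 1, 0, 1]), (3, [1, 1, 0, 0, 0, 1]), (3, [0, 0, 1, 1, 0, 1]),
  (3, [0, 0, 1, 1, 0, 1]), (3, [0, 1, 1, 0, 0, 1]), (3, [1, 1, 0, 0, 0, 1]), (0, [0, 1, 2, 3, 4, 5]),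
  (3, [1, 1, 1, 1, 1, 1]), (3, [0, 1, 1, 1, 1, 1]), (3, [1, 1, 0, 0, 0, 1]), (3, [0, 0, 1, 1, 1, 1]),
  (3, [1, 1, 1, 0, 0, 1]), (3, [0, 1, 1, 0, 0, 1]), (3, [1, 1, 0, 0, 0, 1]), (3, [0, 0, 0, 1, 1, 1]),
  (3, [0, 0, 0, 1, 1, 1]), (3, [0, 0, 0, 1, 1, 1]), (3, [1, 1, 0, 0, 0, 1]), (3, [0, 0, 1, 1, 0, 1]),
  (3, [0, 0, 1, 1, 0, 1]), (3, [0, 1, 1, 0, 0, 1]), (3, [1, 1, 0, 0, 0, 1])]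

def cert5D : List (ℕ × List ℕ) := [
  (1, [5, 0, 1, 2, 3, 4]), (3, [1, 2, 2, 1, 1, 1]), (3, [1, 1, 0, 0, 0, 1]), (3, [0, 1, 2, 1, 1, 1]),
  (3, [1, 1, 1, 0, 0, 1]), (3, [0, 1, 1, 0, 0, 1]), (3, [1, 1, 0, 0, 0, 1]), (2, [0, 1, 2, 3, 5, 4]),
  (3, [1, 1, 1, 1, 0, 1]), (3, [0, 1, 1, 1, 0, 1]), (3, [1, 1, 0, 0, 0, 1]), (3, [0, 0, 1, 1, 0, 1]),
  (3, [0, 0, 1, 1, 0, 1]), (3, [0, 1, 1, 0, 0, 1]), (3, [1, 1, 0, 0, 0, 1]), (2, [0, 1, 2, 4, 5, 3]),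
  (3, [1, 1, 1, 0, 1, 1]), (3, [0, 1, 1, 0, 1, 1]), (3, [1, 1, 0, 0, 0, 1]), (3, [0, 0, 1, 0, 1, 1]),
  (3, [0, 0, 1, 0, 1, 1]), (3, [0, 1, 1, 0, 0, 1]), (3, [1, 1, 0, 0, 0, 1]), (3, [0, 0, 1, 1, 1, 1]),
  (3, [0, 0, 1, 1, 1, 1]), (3, [0, 1, 1, 1, 0, 1]), (3, [1, 1, 0, 0, 0, 1]), (3, [0, 0, 1, 1, 0, 1]),
  (3, [0, 0, 1, 1, 0, 1]), (3, [0, 1, 1, 0, 0, 1]), (3, [1, 1, 0, 0, 0, 1])]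

def cert6A : List (ℕ × List ℕ) := [
  (0, [5, 4, 3, 2, 1, 0, 6]), (1, [5, 4, 3, 2, 1, 0, 6]), (3, [1, 1, 0, 0, 0, 0, 1]),
  (2, [0, 1, 2, 3, 4, 5, 6]), (3, [1, 1, 1, 0, 0, 0, 1]), (3, [0, 1, 1, 0, 0, 0, 1]),
  (3, [1, 1, 0, 0, 0, 0, 1]), (2, [5, 4, 3, 2, 1, 0, 6]), (3, [1, 1, 1, 1, 0, 0, 1]),
  (3, [0, 1, 1, 1, 0, 0, 1]), (3, [1, 1, 0, 0, 0, 0, 1]), (3, [0, 0, 1, 1, 0, 0, 1]),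
  (3, [0, 0, 1, 1, 0, 0, 1]), (3, [0, 1, 1, 0, 0, 0, 1]), (3, [1, 1, 0, 0, 0, 0, 1]),
  (1, [0, 1, 2, 3, 4, 5, 6]), (3, [1, 1, 1, 1, 1, 0, 1]), (3, [0, 1, 1, 1, 1, 0, 1]),
  (3, [1, 1, 0, 0, 0, 0, 1]), (3, [0, 0, 1, 1, 1, 0, 1]), (3, [1, 1, 1, 0, 0, 0, 1]),
  (3, [0, 1, 1, 0, 0, 0, 1]), (3, [1, 1, 0, 0, 0, 0, 1]), (3, [0, 0, 0, 1, 1, 0, 1]),
  (3, [0, 0, 0, 1, 1, 0, 1]), (3, [0, 0, 0, 1, 1, 0, 1]), (3, [1, 1, 0, 0, 0, 0, 1]),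
  (3, [0, 0, 1, 1, 0, 0, 1]), (3, [0, 0, 1, 1, 0, 0, 1]), (3, [0, 1, 1, 0, 0, 0, 1]),
  (3, [1, 1, 0, 0, 0, 0, 1]), (0, [0, 1, 2, 3, 4, 5, 6]), (3, [1, 1, 1, 1, 1, 1, 1]),
  (3, [0, 1, 1, 1, 1, 1, 1]), (3, [1, 1, 0, 0, 0, 0, 1]), (3, [0, 0, 1, 1, 1, 1, 1]),
  (3, [1, 1, 1, 0, 0, 0, 1]), (3, [0, 1, 1, 0, 0, 0, 1]), (3, [1, 1, 0, 0, 0, 0, 1]),
  (3, [0, 0, 0, 1, 1, 1, 1]), (3, [0, 0, 0, 1, 1, 1, 1]), (3, [0, 1, 1, 1, 0, 0, 1]),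
  (3, [1, 1, 0, 0, 0, 0, 1]), (3, [0, 0, 1, 1, 0, 0, 1]), (3, [0, 0, 1, 1, 0, 0, 1]),
  (3, [0, 1, 1, 0, 0, 0, 1]), (3, [1, 1, 0, 0, 0, 0, 1]), (3, [0, 0, 0, 0, 1, 1, 1]),
  (3, [0, 0, 0, 0, 1, 1, 1]), (3, [0, 0, 0, 0, 1, 1, 1]), (3, [1, 1, 0, 0, 0, 0, 1]),
  (3, [0, 0, 0, 0, 1, 1, 1]), (3, [0, 0, 0, 0, 1, 1, 1]), (3, [0, 1, 1, 0, 0, 0, 1]),
  (3, [1, 1, 0, 0, 0, 0, 1]), (3, [0, 0, 0, 1, 1, 0, 1]), (3, [0, 0, 0, 1, 1, 0, 1]),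
  (3, [0, 0, 0, 1, 1, 0, 1]), (3, [1, 1, 0, 0, 0, 0, 1]), (3, [0, 0, 1, 1, 0, 0, 1]),
  (3, [0, 0, 1, 1, 0, 0, 1]), (3, [0, 1, 1, 0, 0, 0, 1]), (3, [1, 1, 0, 0, 0, 0, 1])]

def cert6D : List (ℕ × List ℕ) := [
  (1, [6, 0, 1, 2, 3, 4, 5]), (3, [1, 2, 2, 2, 1, 1, 1]), (3, [1, 1, 0, 0, 0, 0, 1]),
  (3, [0, 1, 2, 2, 1, 1, 1]), (3, [1, 1, 1, 0, 0, 0, 1]), (3, [0, 1, 1, 0, 0, 0, 1]),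
  (3, [1, 1, 0, 0, 0, 0, 1]), (3, [0, 0, 1, 2, 1, 1, 1]), (3, [1, 1, 1, 1, 0, 0, 1]),
  (3, [0, 1, 1, 1, 0, 0, 1]), (3, [1, 1, 0, 0, 0, 0, 1]), (3, [0, 0, 1, 1, 0, 0, 1]),
  (3, [0, 0, 1, 1, 0, 0, 1]), (3, [0, 1, 1, 0, 0, 0, 1]), (3, [1, 1, 0, 0, 0, 0, 1]),
  (2, [6, 4, 3, 2, 1, 0, 5]), (3, [1, 1, 1, 1, 1, 0, 1]), (3, [0, 1, 1, 1, 1, 0, 1]),
  (3, [1, 1, 0, 0, 0, 0, 1]), (3, [0, 0, 1, 1, 1, 0, 1]), (3, [1, 1, 1, 0, 0, 0, 1]),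
  (3, [0, 1, 1, 0, 0, 0, 1]), (3, [1, 1, 0, 0, 0, 0, 1]), (3, [0, 0, 0, 1, 1, 0, 1]),
  (3, [0, 0, 0, 1, 1, 0, 1]), (3, [0, 0, 0, 1, 1, 0, 1]), (3, [1, 1, 0, 0, 0, 0, 1]),
  (3, [0, 0, 1, 1, 0, 0, 1]), (3, [0, 0, 1, 1, 0, 0, 1]), (3, [0, 1, 1, 0, 0, 0, 1]),
  (3, [1, 1, 0, 0, 0, 0, 1]), (2, [6, 5, 3, 2, 1, 0, 4]), (3, [1, 1, 1, 1, 0, 1, 1]),
  (3, [0, 1, 1, 1, 0, 1, 1]), (3, [1, 1, 0, 0, 0, 0, 1]), (3, [0, 0, 1, 1, 0, 1, 1]),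
  (3, [1, 1, 1, 0, 0, 0, 1]), (3, [0, 1, 1, 0, 0, 0, 1]), (3, [1, 1, 0, 0, 0, 0, 1]),
  (3, [0, 0, 0, 1, 0, 1, 1]), (3, [0, 0, 0, 1, 0, 1, 1]), (3, [0, 0, 0, 1, 0, 1, 1]),
  (3, [1, 1, 0, 0, 0, 0, 1]), (3, [0, 0, 1, 1, 0, 0, 1]), (3, [0, 0, 1, 1, 0, 0, 1]),
  (3, [0, 1, 1, 0, 0, 0, 1]), (3, [1, 1, 0, 0, 0, 0, 1]), (3, [0, 0, 0, 1, 1, 1, 1]),
  (3, [0, 0, 0, 1, 1, 1, 1]), (3, [0, 0, 0, 1, 1, 1, 1]), (3, [1, 1, 0, 0, 0, 0, 1]),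
  (3, [0, 0, 1, 1, 1, 0, 1]), (3, [1, 1, 1, 0, 0, 0, 1]), (3, [0, 1, 1, 0, 0, 0, 1]),
  (3, [1, 1, 0, 0, 0, 0, 1]), (3, [0, 0, 0, 1, 1, 0, 1]), (3, [0, 0, 0, 1, 1, 0, 1]),
  (3, [0, 0, 0, 1, 1, 0, 1]), (3, [1, 1, 0, 0, 0, 0, 1]), (3, [0, 0, 1, 1, 0, 0, 1]),
  (3, [0, 0, 1, 1, 0, 0, 1]), (3, [0, 1, 1, 0, 0, 0, 1]), (3, [1, 1, 0, 0, 0, 0, 1])]

def cert6E : List (ℕ × List ℕ) := [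
  (2, [4, 3, 2, 1, 0, 6, 5]), (3, [1, 2, 2, 1, 0, 1, 1]), (3, [1, 1, 0, 0, 0, 0, 1]),
  (3, [0, 1, 2, 1, 0, 1, 1]), (3, [1, 1, 1, 0, 0, 0, 1]), (3, [0, 1, 1, 0, 0, 0, 1]),
  (3, [1, 1, 0, 0, 0, 0, 1]), (3, [0, 1, 2, 2, 1, 1, 1]), (3, [1, 1, 1, 1, 0, 0, 1]),
  (3, [0, 1, 1, 1, 0, 0, 1]), (3, [1, 1, 0, 0, 0, 0, 1]), (3, [0, 0, 1, 1, 0, 0, 1]),
  (3, [0, 0, 1, 1, 0, 0, 1]), (3, [0, 1, 1, 0, 0, 0, 1]), (3, [1, 1, 0, 0, 0, 0, 1]),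
  (2, [0, 1, 2, 3, 4, 6, 5]), (3, [1, 1, 1, 1, 1, 0, 1]), (3, [0, 1, 1, 1, 1, 0, 1]),
  (3, [1, 1, 0, 0, 0, 0, 1]), (3, [0, 0, 1, 1, 1, 0, 1]), (3, [1, 1, 1, 0, 0, 0, 1]),
  (3, [0, 1, 1, 0, 0, 0, 1]), (3, [1, 1, 0, 0, 0, 0, 1]), (3, [0, 0, 0, 1, 1, 0, 1]),
  (3, [0, 0, 0, 1, 1, 0, 1]), (3, [0, 0, 0, 1, 1, 0, 1]), (3, [1, 1, 0, 0, 0, 0, 1]),
  (3, [0, 0, 1, 1, 0, 0, 1]), (3, [0, 0, 1, 1, 0, 0, 1]), (3, [0, 1, 1, 0, 0, 0, 1]),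
  (3, [1, 1, 0, 0, 0, 0, 1]), (3, [1, 2, 3, 2, 1, 2, 1]), (3, [1, 1, 1, 0, 0, 1, 1]),
  (3, [0, 1, 1, 0, 0, 1, 1]), (3, [1, 1, 0, 0, 0, 0, 1]), (3, [0, 0, 1, 0, 0, 1, 1]),
  (3, [0, 0, 1, 0, 0, 1, 1]), (3, [0, 1, 1, 0, 0, 0, 1]), (3, [1, 1, 0, 0, 0, 0, 1]),
  (3, [0, 0, 1, 1, 0, 1, 1]), (3, [0, 0, 1, 1, 0, 1, 1]), (3, [0, 1, 1, 1, 0, 0, 1]),
  (3, [1, 1, 0, 0, 0, 0, 1]), (3, [0, 0, 1, 1, 0, 0, 1]), (3, [0, 0, 1, 1, 0, 0, 1]),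
  (3, [0, 1, 1, 0, 0, 0, 1]), (3, [1, 1, 0, 0, 0, 0, 1]), (3, [0, 0, 1, 1, 1, 1, 1]),
  (3, [1, 1, 1, 0, 0, 1, 1]), (3, [0, 1, 1, 0, 0, 1, 1]), (3, [1, 1, 0, 0, 0, 0, 1]),
  (3, [0, 0, 1, 0, 0, 1, 1]), (3, [0, 0, 1, 0, 0, 1, 1]), (3, [0, 1, 1, 0, 0, 0, 1]),
  (3, [1, 1, 0, 0, 0, 0, 1]), (3, [0, 0, 0, 1, 1, 0, 1]), (3, [0, 0, 0, 1, 1, 0, 1]),
  (3, [0, 0, 0, 1, 1, 0, 1]), (3, [1, 1, 0, 0, 0, 0, 1]), (3, [0, 0, 1, 1, 0, 0, 1]),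
  (3, [0, 0, 1, 1, 0, 0, 1]), (3, [0, 1, 1, 0, 0, 0, 1]), (3, [1, 1, 0, 0, 0, 0, 1])]

def cert7A : List (ℕ × List ℕ) := [
  (0, [6, 5, 4, 3, 2, 1, 0, 7]), (1, [6, 5, 4, 3, 2, 1, 0, 7]), (3, [1, 1, 0, 0, 0, 0, 0, 1]),
  (2, [0, 1, 2, 3, 4, 5, 6, 7]), (3, [1, 1, 1, 0, 0, 0, 0, 1]), (3, [0, 1, 1, 0, 0, 0, 0, 1]),
  (3, [1, 1, 0, 0, 0, 0, 0, 1]), (3, [1, 2, 3, 4, 3, 2, 1, 2]), (3, [1, 1, 1, 1, 0, 0, 0, 1]),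
  (3, [0, 1, 1, 1, 0, 0, 0, 1]), (3, [1, 1, 0, 0, 0, 0, 0, 1]), (3, [0, 0, 1, 1, 0, 0, 0, 1]),
  (3, [0, 0, 1, 1, 0, 0, 0, 1]), (3, [0, 1, 1, 0, 0, 0, 0, 1]), (3, [1, 1, 0, 0, 0, 0, 0, 1]),
  (2, [6, 5, 4, 3, 2, 1, 0, 7]), (3, [1, 1, 1, 1, 1, 0, 0, 1]), (3, [0, 1, 1, 1, 1, 0, 0, 1]),
  (3, [1, 1, 0, 0, 0, 0, 0, 1]), (3, [0, 0, 1, 1, 1, 0, 0, 1]), (3, [1, 1, 1, 0, 0, 0, 0, 1]),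
  (3, [0, 1, 1, 0, 0, 0, 0, 1]), (3, [1, 1, 0, 0, 0, 0, 0, 1]), (3, [0, 0, 0, 1, 1, 0, 0, 1]),
  (3, [0, 0, 0, 1, 1, 0, 0, 1]), (3, [0, 0, 0, 1, 1, 0, 0, 1]), (3, [1, 1, 0, 0, 0, 0, 0, 1]),
  (3, [0, 0, 1, 1, 0, 0, 0, 1]), (3, [0, 0, 1, 1, 0, 0, 0, 1]), (3, [0, 1, 1, 0, 0, 0, 0, 1]),
  (3, [1, 1, 0, 0, 0, 0, 0, 1]), (1, [0, 1, 2, 3, 4, 5, 6, 7]), (3, [1, 1, 1, 1, 1, 1, 0, 1]),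
  (3, [0, 1, 1, 1, 1, 1, 0, 1]), (3, [1, 1, 0, 0, 0, 0, 0, 1]), (3, [0, 0, 1, 1, 1, 1, 0, 1]),
  (3, [1, 1, 1, 0, 0, 0, 0, 1]), (3, [0, 1, 1, 0, 0, 0, 0, 1]), (3, [1, 1, 0, 0, 0, 0, 0, 1]),
  (3, [0, 0, 0, 1, 1, 1, 0, 1]), (3, [0, 0, 0, 1, 1, 1, 0, 1]), (3, [0, 1, 1, 1, 0, 0, 0, 1]),
  (3, [1, 1, 0, 0, 0, 0, 0, 1]), (3, [0, 0, 1, 1, 0, 0, 0, 1]), (3, [0, 0, 1, 1, 0, 0, 0, 1]),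
  (3, [0, 1, 1, 0, 0, 0, 0, 1]), (3, [1, 1, 0, 0, 0, 0, 0, 1]), (3, [0, 0, 0, 0, 1, 1, 0, 1]),
  (3, [0, 0, 0, 0, 1, 1, 0, 1]), (3, [0, 0, 0, 0, 1, 1, 0, 1]), (3, [1, 1, 0, 0, 0, 0, 0, 1]),
  (3, [0, 0, 0, 0, 1, 1, 0, 1]), (3, [0, 0, 0, 0, 1, 1, 0, 1]), (3, [0, 1, 1, 0, 0, 0, 0, 1]),
  (3, [1, 1, 0, 0, 0, 0, 0, 1]), (3, [0, 0, 0, 1, 1, 0, 0, 1]), (3, [0, 0, 0, 1, 1, 0, 0, 1]),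
  (3, [0, 0, 0, 1, 1, 0, 0, 1]), (3, [1, 1, 0, 0, 0, 0, 0, 1]), (3, [0, 0, 1, 1, 0, 0, 0, 1]),
  (3, [0, 0, 1, 1, 0, 0, 0, 1]), (3, [0, 1, 1, 0, 0, 0, 0, 1]), (3, [1, 1, 0, 0, 0, 0, 0, 1]),
  (0, [0, 1, 2, 3, 4, 5, 6, 7]), (3, [1, 1, 1, 1, 1, 1, 1, 1]), (3, [0, 1, 1, 1, 1, 1, 1, 1]),
  (3, [1, 1, 0, 0, 0, 0, 0, 1]), (3, [0, 0, 1, 1, 1, 1, 1, 1]), (3, [1, 1, 1, 0, 0, 0, 0, 1]),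
  (3, [0, 1, 1, 0, 0, 0, 0, 1]), (3, [1, 1, 0, 0, 0, 0, 0, 1]), (3, [0, 0, 0, 1, 1, 1, 1, 1]),
  (3, [1, 1, 1, 1, 0, 0, 0, 1]), (3, [0, 1, 1, 1, 0, 0, 0, 1]), (3, [1, 1, 0, 0, 0, 0, 0, 1]),
  (3, [0, 0, 1, 1, 0, 0, 0, 1]), (3, [0, 0, 1, 1, 0, 0, 0, 1]), (3, [0, 1, 1, 0, 0, 0, 0, 1]),
  (3, [1, 1, 0, 0, 0, 0, 0, 1]), (3, [0, 0, 0, 0, 1, 1, 1, 1]), (3, [0, 0, 0, 0, 1, 1, 1, 1]),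
  (3, [0, 0, 0, 0, 1, 1, 1, 1]), (3, [1, 1, 0, 0, 0, 0, 0, 1]), (3, [0, 0, 1, 1, 1, 0, 0, 1]),
  (3, [1, 1, 1, 0, 0, 0, 0, 1]), (3, [0, 1, 1, 0, 0, 0, 0, 1]), (3, [1, 1, 0, 0, 0, 0, 0, 1]),
  (3, [0, 0, 0, 1, 1, 0, 0, 1]), (3, [0, 0, 0, 1, 1, 0, 0, 1]), (3, [0, 0, 0, 1, 1, 0, 0, 1]),
  (3, [1, 1, 0, 0, 0, 0, 0, 1]), (3, [0, 0, 1, 1, 0, 0, 0, 1]), (3, [0, 0, 1, 1, 0, 0, 0, 1]),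
  (3, [0, 1, 1, 0, 0, 0, 0, 1]), (3, [1, 1, 0, 0, 0, 0, 0, 1]), (3, [0, 0, 0, 0, 0, 1, 1, 1]),
  (3, [0, 0, 0, 0, 0, 1, 1, 1]), (3, [0, 0, 0, 0, 0, 1, 1, 1]), (3, [1, 1, 0, 0, 0, 0, 0, 1]),
  (3, [0, 0, 0, 0, 0, 1, 1, 1]), (3, [0, 0, 0, 0, 0, 1, 1, 1]), (3, [0, 1, 1, 0, 0, 0, 0, 1]),
  (3, [1, 1, 0, 0, 0, 0, 0, 1]), (3, [0, 0, 0, 0, 0, 1, 1, 1]), (3, [0, 0, 0, 0, 0, 1, 1, 1]),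
  (3, [0, 0, 0, 0, 0, 1, 1, 1]), (3, [1, 1, 0, 0, 0, 0, 0, 1]), (3, [0, 0, 1, 1, 0, 0, 0, 1]),
  (3, [0, 0, 1, 1, 0, 0, 0, 1]), (3, [0, 1, 1, 0, 0, 0, 0, 1]), (3, [1, 1, 0, 0, 0, 0, 0, 1]),
  (3, [0, 0, 0, 0, 1, 1, 0, 1]), (3, [0, 0, 0, 0, 1, 1, 0, 1]), (3, [0, 0, 0, 0, 1, 1, 0, 1]),
  (3, [1, 1, 0, 0, 0, 0, 0, 1]), (3, [0, 0, 0, 0, 1, 1, 0, 1]), (3, [0, 0, 0, 0, 1, 1, 0, 1]),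
  (3, [0, 1, 1, 0, 0, 0, 0, 1]), (3, [1, 1, 0, 0, 0, 0, 0, 1]), (3, [0, 0, 0, 1, 1, 0, 0, 1]),
  (3, [0, 0, 0, 1, 1, 0, 0, 1]), (3, [0, 0, 0, 1, 1, 0, 0, 1]), (3, [1, 1, 0, 0, 0, 0, 0, 1]),
  (3, [0, 0, 1, 1, 0, 0, 0, 1]), (3, [0, 0, 1, 1, 0, 0, 0, 1]), (3, [0, 1, 1, 0, 0, 0, 0, 1]),
  (3, [1, 1, 0, 0, 0, 0, 0, 1])]

def cert7D : List (ℕ × List ℕ) := [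
  (1, [7, 0, 1, 2, 3, 4, 5, 6]), (3, [1, 2, 2, 2, 2, 1, 1, 1]), (3, [1, 1, 0, 0, 0, 0, 0, 1]),
  (3, [0, 1, 2, 2, 2, 1, 1, 1]), (3, [1, 1, 1, 0, 0, 0, 0, 1]), (3, [0, 1, 1, 0, 0, 0, 0, 1]),
  (3, [1, 1, 0, 0, 0, 0, 0, 1]), (3, [0, 0, 1, 2, 2, 1, 1, 1]), (3, [1, 1, 1, 1, 0, 0, 0, 1]),
  (3, [0, 1, 1, 1, 0, 0, 0, 1]), (3, [1, 1, 0, 0, 0, 0, 0, 1]), (3, [0, 0, 1, 1, 0, 0, 0, 1]),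
  (3, [0, 0, 1, 1, 0, 0, 0, 1]), (3, [0, 1, 1, 0, 0, 0, 0, 1]), (3, [1, 1, 0, 0, 0, 0, 0, 1]),
  (3, [0, 0, 0, 1, 2, 1, 1, 1]), (3, [0, 0, 0, 1, 2, 1, 1, 1]), (3, [0, 1, 1, 1, 1, 0, 0, 1]),
  (3, [1, 1, 0, 0, 0, 0, 0, 1]), (3, [0, 0, 1, 1, 1, 0, 0, 1]), (3, [1, 1, 1, 0, 0, 0, 0, 1]),
  (3, [0, 1, 1, 0, 0, 0, 0, 1]), (3, [1, 1, 0, 0, 0, 0, 0, 1]), (3, [0, 0, 0, 1, 1, 0, 0, 1]),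
  (3, [0, 0, 0, 1, 1, 0, 0, 1]), (3, [0, 0, 0, 1, 1, 0, 0, 1]), (3, [1, 1, 0, 0, 0, 0, 0, 1]),
  (3, [0, 0, 1, 1, 0, 0, 0, 1]), (3, [0, 0, 1, 1, 0, 0, 0, 1]), (3, [0, 1, 1, 0, 0, 0, 0, 1]),
  (3, [1, 1, 0, 0, 0, 0, 0, 1]), (2, [7, 5, 4, 3, 2, 1, 0, 6]), (3, [1, 1, 1, 1, 1, 1, 0, 1]),
  (3, [0, 1, 1, 1, 1, 1, 0, 1]), (3, [1, 1, 0, 0, 0, 0, 0, 1]), (3, [0, 0, 1, 1, 1, 1, 0, 1]),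
  (3, [1, 1, 1, 0, 0, 0, 0, 1]), (3, [0, 1, 1, 0, 0, 0, 0, 1]), (3, [1, 1, 0, 0, 0, 0, 0, 1]),
  (3, [0, 0, 0, 1, 1, 1, 0, 1]), (3, [0, 0, 0, 1, 1, 1, 0, 1]), (3, [0, 1, 1, 1, 0, 0, 0, 1]),
  (3, [1, 1, 0, 0, 0, 0, 0, 1]), (3, [0, 0, 1, 1, 0, 0, 0, 1]), (3, [0, 0, 1, 1, 0, 0, 0, 1]),
  (3, [0, 1, 1, 0, 0, 0, 0, 1]), (3, [1, 1, 0, 0, 0, 0, 0, 1]), (3, [0, 0, 0, 0, 1, 1, 0, 1]),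
  (3, [0, 0, 0, 0, 1, 1, 0, 1]), (3, [0, 0, 0, 0, 1, 1, 0, 1]), (3, [1, 1, 0, 0, 0, 0, 0, 1]),
  (3, [0, 0, 0, 0, 1, 1, 0, 1]), (3, [0, 0, 0, 0, 1, 1, 0, 1]), (3, [0, 1, 1, 0, 0, 0, 0, 1]),
  (3, [1, 1, 0, 0, 0, 0, 0, 1]), (3, [0, 0, 0, 1, 1, 0, 0, 1]), (3, [0, 0, 0, 1, 1, 0, 0, 1]),
  (3, [0, 0, 0, 1, 1, 0, 0, 1]), (3, [1, 1, 0, 0, 0, 0, 0, 1]), (3, [0, 0, 1, 1, 0, 0, 0, 1]),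
  (3, [0, 0, 1, 1, 0, 0, 0, 1]), (3, [0, 1, 1, 0, 0, 0, 0, 1]), (3, [1, 1, 0, 0, 0, 0, 0, 1]),
  (2, [7, 6, 4, 3, 2, 1, 0, 5]), (3, [1, 1, 1, 1, 1, 0, 1, 1]), (3, [0, 1, 1, 1, 1, 0, 1, 1]),
  (3, [1, 1, 0, 0, 0, 0, 0, 1]), (3, [0, 0, 1, 1, 1, 0, 1, 1]), (3, [1, 1, 1, 0, 0, 0, 0, 1]),
  (3, [0, 1, 1, 0, 0, 0, 0, 1]), (3, [1, 1, 0, 0, 0, 0, 0, 1]), (3, [0, 0, 0, 1, 1, 0, 1, 1]),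
  (3, [0, 0, 0, 1, 1, 0, 1, 1]), (3, [0, 1, 1, 1, 0, 0, 0, 1]), (3, [1, 1, 0, 0, 0, 0, 0, 1]),
  (3, [0, 0, 1, 1, 0, 0, 0, 1]), (3, [0, 0, 1, 1, 0, 0, 0, 1]), (3, [0, 1, 1, 0, 0, 0, 0, 1]),
  (3, [1, 1, 0, 0, 0, 0, 0, 1]), (3, [0, 0, 0, 0, 1, 0, 1, 1]), (3, [0, 0, 0, 0, 1, 0, 1, 1]),
  (3, [0, 0, 0, 0, 1, 0, 1, 1]), (3, [1, 1, 0, 0, 0, 0, 0, 1]), (3, [0, 0, 0, 0, 1, 0, 1, 1]),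
  (3, [0, 0, 0, 0, 1, 0, 1, 1]), (3, [0, 1, 1, 0, 0, 0, 0, 1]), (3, [1, 1, 0, 0, 0, 0, 0, 1]),
  (3, [0, 0, 0, 1, 1, 0, 0, 1]), (3, [0, 0, 0, 1, 1, 0, 0, 1]), (3, [0, 0, 0, 1, 1, 0, 0, 1]),
  (3, [1, 1, 0, 0, 0, 0, 0, 1]), (3, [0, 0, 1, 1, 0, 0, 0, 1]), (3, [0, 0, 1, 1, 0, 0, 0, 1]),
  (3, [0, 1, 1, 0, 0, 0, 0, 1]), (3, [1, 1, 0, 0, 0, 0, 0, 1]), (3, [0, 0, 0, 0, 1, 1, 1, 1]),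
  (3, [0, 0, 0, 0, 1, 1, 1, 1]), (3, [0, 0, 0, 0, 1, 1, 1, 1]), (3, [1, 1, 0, 0, 0, 0, 0, 1]),
  (3, [0, 0, 0, 0, 1, 1, 1, 1]), (3, [1, 1, 1, 0, 0, 0, 0, 1]), (3, [0, 1, 1, 0, 0, 0, 0, 1]),
  (3, [1, 1, 0, 0, 0, 0, 0, 1]), (3, [0, 0, 0, 1, 1, 1, 0, 1]), (3, [0, 0, 0, 1, 1, 1, 0, 1]),
  (3, [0, 1, 1, 1, 0, 0, 0, 1]), (3, [1, 1, 0, 0, 0, 0, 0, 1]), (3, [0, 0, 1, 1, 0, 0, 0, 1]),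
  (3, [0, 0, 1, 1, 0, 0, 0, 1]), (3, [0, 1, 1, 0, 0, 0, 0, 1]), (3, [1, 1, 0, 0, 0, 0, 0, 1]),
  (3, [0, 0, 0, 0, 1, 1, 0, 1]), (3, [0, 0, 0, 0, 1, 1, 0, 1]), (3, [0, 0, 0, 0, 1, 1, 0, 1]),
  (3, [1, 1, 0, 0, 0, 0, 0, 1]), (3, [0, 0, 0, 0, 1, 1, 0, 1]), (3, [0, 0, 0, 0, 1, 1, 0, 1]),
  (3, [0, 1, 1, 0, 0, 0, 0, 1]), (3, [1, 1, 0, 0, 0, 0, 0, 1]), (3, [0, 0, 0, 1, 1, 0, 0, 1]),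
  (3, [0, 0, 0, 1, 1, 0, 0, 1]), (3, [0, 0, 0, 1, 1, 0, 0, 1]), (3, [1, 1, 0, 0, 0, 0, 0, 1]),
  (3, [0, 0, 1, 1, 0, 0, 0, 1]), (3, [0, 0, 1, 1, 0, 0, 0, 1]), (3, [0, 1, 1, 0, 0, 0, 0, 1]),
  (3, [1, 1, 0, 0, 0, 0, 0, 1])]

def cert7E : List (ℕ × List ℕ) := [
  (3, [2, 3, 4, 3, 2, 1, 2, 1]), (3, [1, 2, 2, 1, 0, 0, 1, 1]), (3, [1, 1, 0, 0, 0, 0, 0, 1]),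
  (3, [0, 1, 2, 1, 0, 0, 1, 1]), (3, [1, 1, 1, 0, 0, 0, 0, 1]), (3, [0, 1, 1, 0, 0, 0, 0, 1]),
  (3, [1, 1, 0, 0, 0, 0, 0, 1]), (3, [0, 1, 2, 2, 1, 0, 1, 1]), (3, [1, 1, 1, 1, 0, 0, 0, 1]),
  (3, [0, 1, 1, 1, 0, 0, 0, 1]), (3, [1, 1, 0, 0, 0, 0, 0, 1]), (3, [0, 0, 1, 1, 0, 0, 0, 1]),
  (3, [0, 0, 1, 1, 0, 0, 0, 1]), (3, [0, 1, 1, 0, 0, 0, 0, 1]), (3, [1, 1, 0, 0, 0, 0, 0, 1]),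
  (3, [0, 1, 2, 2, 2, 1, 1, 1]), (3, [1, 1, 1, 1, 1, 0, 0, 1]), (3, [0, 1, 1, 1, 1, 0, 0, 1]),
  (3, [1, 1, 0, 0, 0, 0, 0, 1]), (3, [0, 0, 1, 1, 1, 0, 0, 1]), (3, [1, 1, 1, 0, 0, 0, 0, 1]),
  (3, [0, 1, 1, 0, 0, 0, 0, 1]), (3, [1, 1, 0, 0, 0, 0, 0, 1]), (3, [0, 0, 0, 1, 1, 0, 0, 1]),
  (3, [0, 0, 0, 1, 1, 0, 0, 1]), (3, [0, 0, 0, 1, 1, 0, 0, 1]), (3, [1, 1, 0, 0, 0, 0, 0, 1]),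
  (3, [0, 0, 1, 1, 0, 0, 0, 1]), (3, [0, 0, 1, 1, 0, 0, 0, 1]), (3, [0, 1, 1, 0, 0, 0, 0, 1]),
  (3, [1, 1, 0, 0, 0, 0, 0, 1]), (2, [0, 1, 2, 3, 4, 5, 7, 6]), (3, [1, 1, 1, 1, 1, 1, 0, 1]),
  (3, [1, 2, 2, 1, 0, 0, 1, 1]), (3, [1, 1, 0, 0, 0, 0, 0, 1]), (3, [0, 1, 2, 1, 0, 0, 1, 1]),
  (3, [1, 1, 1, 0, 0, 0, 0, 1]), (3, [0, 1, 1, 0, 0, 0, 0, 1]), (3, [1, 1, 0, 0, 0, 0, 0, 1]),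
  (3, [0, 0, 0, 1, 1, 1, 0, 1]), (3, [0, 0, 0, 1, 1, 1, 0, 1]), (3, [0, 1, 1, 1, 0, 0, 0, 1]),
  (3, [1, 1, 0, 0, 0, 0, 0, 1]), (3, [0, 0, 1, 1, 0, 0, 0, 1]), (3, [0, 0, 1, 1, 0, 0, 0, 1]),
  (3, [0, 1, 1, 0, 0, 0, 0, 1]), (3, [1, 1, 0, 0, 0, 0, 0, 1]), (3, [0, 0, 0, 0, 1, 1, 0, 1]),
  (3, [0, 0, 0, 0, 1, 1, 0, 1]), (3, [0, 0, 0, 0, 1, 1, 0, 1]), (3, [1, 1, 0, 0, 0, 0, 0, 1]),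
  (3, [0, 0, 0, 0, 1, 1, 0, 1]), (3, [0, 0, 0, 0, 1, 1, 0, 1]), (3, [0, 1, 1, 0, 0, 0, 0, 1]),
  (3, [1, 1, 0, 0, 0, 0, 0, 1]), (3, [0, 0, 0, 1, 1, 0, 0, 1]), (3, [0, 0, 0, 1, 1, 0, 0, 1]),
  (3, [0, 0, 0, 1, 1, 0, 0, 1]), (3, [1, 1, 0, 0, 0, 0, 0, 1]), (3, [0, 0, 1, 1, 0, 0, 0, 1]),
  (3, [0, 0, 1, 1, 0, 0, 0, 1]), (3, [0, 1, 1, 0, 0, 0, 0, 1]), (3, [1, 1, 0, 0, 0, 0, 0, 1]),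
  (3, [1, 2, 3, 2, 1, 0, 2, 1]), (3, [1, 1, 1, 0, 0, 0, 1, 1]), (3, [0, 1, 1, 0, 0, 0, 1, 1]),
  (3, [1, 1, 0, 0, 0, 0, 0, 1]), (3, [0, 0, 1, 0, 0, 0, 1, 1]), (3, [0, 0, 1, 0, 0, 0, 1, 1]),
  (3, [0, 1, 1, 0, 0, 0, 0, 1]), (3, [1, 1, 0, 0, 0, 0, 0, 1]), (3, [0, 0, 1, 1, 0, 0, 1, 1]),
  (3, [0, 0, 1, 1, 0, 0, 1, 1]), (3, [0, 1, 1, 1, 0, 0, 0, 1]), (3, [1, 1, 0, 0, 0, 0, 0, 1]),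
  (3, [0, 0, 1, 1, 0, 0, 0, 1]), (3, [0, 0, 1, 1, 0, 0, 0, 1]), (3, [0, 1, 1, 0, 0, 0, 0, 1]),
  (3, [1, 1, 0, 0, 0, 0, 0, 1]), (3, [0, 0, 1, 1, 1, 0, 1, 1]), (3, [1, 1, 1, 0, 0, 0, 1, 1]),
  (3, [0, 1, 1, 0, 0, 0, 1, 1]), (3, [1, 1, 0, 0, 0, 0, 0, 1]), (3, [0, 0, 1, 0, 0, 0, 1, 1]),
  (3, [0, 0, 1, 0, 0, 0, 1, 1]), (3, [0, 1, 1, 0, 0, 0, 0, 1]), (3, [1, 1, 0, 0, 0, 0, 0, 1]),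
  (3, [0, 0, 0, 1, 1, 0, 0, 1]), (3, [0, 0, 0, 1, 1, 0, 0, 1]), (3, [0, 0, 0, 1, 1, 0, 0, 1]),
  (3, [1, 1, 0, 0, 0, 0, 0, 1]), (3, [0, 0, 1, 1, 0, 0, 0, 1]), (3, [0, 0, 1, 1, 0, 0, 0, 1]),
  (3, [0, 1, 1, 0, 0, 0, 0, 1]), (3, [1, 1, 0, 0, 0, 0, 0, 1]), (3, [0, 0, 1, 1, 1, 1, 1, 1]),
  (3, [1, 1, 1, 0, 0, 0, 1, 1]), (3, [0, 1, 1, 0, 0, 0, 1, 1]), (3, [1, 1, 0, 0, 0, 0, 0, 1]),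
  (3, [0, 0, 1, 0, 0, 0, 1, 1]), (3, [0, 0, 1, 0, 0, 0, 1, 1]), (3, [0, 1, 1, 0, 0, 0, 0, 1]),
  (3, [1, 1, 0, 0, 0, 0, 0, 1]), (3, [0, 0, 1, 1, 0, 0, 1, 1]), (3, [0, 0, 1, 1, 0, 0, 1, 1]),
  (3, [0, 1, 1, 1, 0, 0, 0, 1]), (3, [1, 1, 0, 0, 0, 0, 0, 1]), (3, [0, 0, 1, 1, 0, 0, 0, 1]),
  (3, [0, 0, 1, 1, 0, 0, 0, 1]), (3, [0, 1, 1, 0, 0, 0, 0, 1]), (3, [1, 1, 0, 0, 0, 0, 0, 1]),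
  (3, [0, 0, 0, 0, 1, 1, 0, 1]), (3, [0, 0, 0, 0, 1, 1, 0, 1]), (3, [0, 0, 0, 0, 1, 1, 0, 1]),
  (3, [1, 1, 0, 0, 0, 0, 0, 1]), (3, [0, 0, 1, 0, 0, 0, 1, 1]), (3, [0, 0, 1, 0, 0, 0, 1, 1]),
  (3, [0, 1, 1, 0, 0, 0, 0, 1]), (3, [1, 1, 0, 0, 0, 0, 0, 1]), (3, [0, 0, 0, 1, 1, 0, 0, 1]),
  (3, [0, 0, 0, 1, 1, 0, 0, 1]), (3, [0, 0, 0, 1, 1, 0, 0, 1]), (3, [1, 1, 0, 0, 0, 0, 0, 1]),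
  (3, [0, 0, 1, 1, 0, 0, 0, 1]), (3, [0, 0, 1, 1, 0, 0, 0, 1]), (3, [0, 1, 1, 0, 0, 0, 0, 1]),
  (3, [1, 1, 0, 0, 0, 0, 0, 1])]

/-- the certificates -/
def cert (k t : ℕ) : List (ℕ × List ℕ) :=
  match k, t with
  | 1, 0 => cert1A
  | 2, 0 => cert2A
  | 3, 0 => cert3A
  | 4, 0 => cert4A
  | 4, 1 => cert4D
  | 5, 0 => cert5A
  | 5, 1 => cert5D
  | 6, 0 => cert6A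
  | 6, 1 => cert6D
  | 6, 2 => cert6E
  | 7, 0 => cert7A
  | 7, 1 => cert7D
  | 7, 2 => cert7E
  | _, _ => []

/-- check of a table -/
def checkAll (k t : ℕ) : Bool :=
  (List.range (2 ^ k - 1)).all fun m => check t k (m + 1) ((cert k t).getD m (4, []))

set_option maxRecDepth 100000 in
theorem check_all : ([(1, 0), (2, 0), (3, 0), (4, 0), (4, 1), (5, 0), (5, 1), (6, 0), (6, 1), (6, 2), (7, 0), (7, 1),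
    (7, 2)] : List (ℕ × ℕ)).all (fun x => checkAll x.1 x.2) = true := by
  decide +kernel

theorem checkAll_of_valid {k t : ℕ} (h1 : 1 ≤ k) (h7 : k ≤ 7) (hv : valid t k = true) : checkAll k t = true := by
  have h := List.all_eq_true.1 check_all
  have hmem : (k, t) ∈ ([(1, 0), (2, 0), (3, 0), (4, 0), (4, 1), (5, 0), (5, 1), (6, 0), (6, 1), (6, 2), (7, 0), (7, 1),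
    (7, 2)] : List (ℕ × ℕ)) := by
    simp only [valid, Bool.or_eq_true, Bool.and_eq_true, beq_iff_eq, decide_eq_true_eq] at hv
    rcases hv with (rfl | ⟨rfl, h4⟩) | ⟨rfl, h6⟩
    · interval_cases k <;> simp
    · interval_cases k <;> simp
    · interval_cases k <;> simp
  exact h _ hmem

end Cfsg.Agent.H712.OT.Dyn
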